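import Mathlib
import Cfsg.Agent.StC.IIG1
import Cfsg.Agent.StC.IIG2

/-! The case `C(e) = 2 × Aut(M₁₂)`: the three surviving systems of relators. -/

set_option autoImplicit false
set_option maxRecDepth 100000
set_option linter.unusedVariables false
set_option linter.unusedSectionVars false
set_option exponentiation.threshold 100000

namespace Cfsg.Agent.M2S

open Cfsg.Agent.Spor Cfsg.Agent.Rec Cfsg.Agent.Rec.Y3 Cfsg.Agent.Inv.Fz Cfsg.Agent.UT Cfsg.Agent.StC Subgroup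

universe u

/-- The relators `ws` on the letters of `σ` and further letters lead to one of three systems. -/
def Br2 (ws : List (List ℕ)) : Prop :=
  ∀ (G : Type u) [Group G] [Finite G] (σ : St2 G) (M : List G), Sat ws (σ.l ++ M) →
    ∃ M, Sat w0c0c0 (σ.l ++ M) ∨ Sat w0c0c2 (σ.l ++ M) ∨ Sat w0c7c3i (σ.l ++ M)

variable {ws vs gs : List (List ℕ)}

theorem Br2.imp (hi : Imp.{u} ws gs) (h : Br2.{u} (ws ++ gs)) : Br2.{u} ws :=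
  fun G _ _ σ M hs => h G σ M (sat_append.2 ⟨hs, hi G _ hs⟩)

theorem Br2.dead (hi : Imp.{u} ws [[1, 1]]) : Br2.{u} ws := fun G _ _ σ _ hs =>
  absurd ((congrArg _ (mul_one σ.f)).symm.trans (hi G _ hs _ (List.mem_singleton_self _))) σ.q0.1.2.2.1

/-- New letters, given as words. -/
theorem Br2.sub (W : List (List ℕ)) (h : Br2.{u} vs) (hc : allL vs (fun w => memW ws
    (subW ([[0], [1], [2], [3], [4], [5], [6], [7], [8], [9], [10], [11]] ++ W) w)) = true) : Br2.{u} ws :=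
  fun G _ _ σ M hs => h G σ (W.map (evalW (nth 1 (σ.l ++ M)))) (by simpa using hs.words _ hc)

/-- The word `ω` with inverse `ω'` centralises `e` and `z` and satisfies `gs`; the solutions are the words `W`. -/
theorem Br2.cand (ω ω' : List ℕ) (gs W : List (List ℕ))
    (hi : Imp.{u} ws (([[0, 1], [0, 2, 1, 2], [0, 3, 3, 1, 4, 4]] ++ gs).map
      (subW [ω, ω', [0], [1], [2], [3], [4], [5], [6], [7], [8], [9]])))
    (hc : band (allL W (lettersLt 10)) (CC_t.dom.all fun a => force (B6.A.inv a) fun b =>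
      bor (bneg (allL gs fun w => Nat.beq (evC B6.A (a :: b :: cC) w) B6.A.one))
        (exL W fun w => Nat.beq (evC B6.A cC w) a)) = true)
    (h : ∀ w ∈ W, Br2.{u} (ws ++ [ω' ++ w])) : Br2.{u} ws := fun G _ _ σ M hs => by
  have h1 : Sat ([[0, 1], [0, 2, 1, 2], [0, 3, 3, 1, 4, 4]] ++ gs)
      (evalW (nth 1 (σ.l ++ M)) ω :: evalW (nth 1 (σ.l ++ M)) ω' :: σ.lb) := fun w hw => by
    simpa [evalW_subW] using hi G _ hs _ (List.mem_map_of_mem hw)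
  obtain ⟨h2, h3⟩ := sat_append.1 h1
  simp only [sat_cons, evalW_cons, evalW_nil, nth_zero, nth_succ, mul_one] at h2
  obtain ⟨a1, a2, a3, -⟩ := h2
  rw [← inv_eq_of_mul_eq_one_right a1] at a2 a3 h3
  obtain ⟨c1, c2⟩ := (band_iff _ _).1 hc
  obtain hk := σ.hC (evalW (nth 1 (σ.l ++ M)) ω) (lr a2 (by rw [mul_inv_rev, σ.q0.2.1.1]; group)) (lr a3 (by group))
  obtain ⟨a, ha⟩ := σ.gB.1.cov _ hk
  have h4 := (σ.gB.1.all _).1 c2 a ha.1 (ha.2 ▸ hk)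
  simp only [force_eq, bor_iff, bneg_iff, exL_iff, allL_iff, nbeq_iff] at h4
  obtain ⟨w, hw, e1⟩ := h4.resolve_left fun h5 => h5 fun w hw =>
    (((ha.cons (ha.inv.cons σ.rep)).word w).eq_iff Cod.rep_one).2 (h3 w hw)
  refine h w hw G σ M (sat_append.2 ⟨hs, sat_cons.2 ⟨?_, sat_nil _⟩⟩)
  rw [evalW_append, ← inv_eq_of_mul_eq_one_right a1, ← ((σ.rep.word w).eq_iff ha).1 e1, inv_mul_eq_one]
  exact evalW_congr fun x hx =>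
    (nth_take (1 : G) (e := σ.l ++ M) ((lettersLt_iff _ _).1 ((allL_iff _ _).1 c1 w hw) x hx))

theorem w1c1_b2 : Br2.{u} w1c1 :=
  Br2.dead (imp_of w1c1D w1c1D_rels (by decide +kernel))

theorem w1c2_b2 : Br2.{u} w1c2 :=
  Br2.dead (imp_of w1c2D w1c2D_rels (by decide +kernel))

theorem w1c3_b2 : Br2.{u} w1c3 :=
  Br2.dead (imp_of w1c3D w1c3D_rels (by decide +kernel))

theorem w1c4_b2 : Br2.{u} w1c4 :=
  Br2.dead (imp_of w1c4D w1c4D_rels (by decide +kernel))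

theorem w1c5_b2 : Br2.{u} w1c5 :=
  Br2.dead (imp_of w1c5D w1c5D_rels (by decide +kernel))

theorem w1c6_b2 : Br2.{u} w1c6 :=
  Br2.dead (imp_of w1c6D w1c6D_rels (by decide +kernel))

theorem w1c0b_b2 : Br2.{u} w1c0b :=
  Br2.cand [13, 9, 13, 9, 13, 9] [8, 13, 8, 13, 8, 13] [[0, 3, 1, 4], [0, 7, 1, 7], [0, 9, 7, 6, 3, 1, 6, 9, 7, 4]] []
    (imp_of w1c0cT w1c0cT_rels (by decide +kernel)) (by decide +kernel)
    (List.forall_mem_nil _)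

theorem w1c0a_b2 : Br2.{u} w1c0a :=
  Br2.sub [[12], [10, 12, 11, 7]] w1c0b_b2 (by decide +kernel)

theorem w1c0_b2 : Br2.{u} w1c0 :=
  Br2.imp w1c0a_i w1c0a_b2

theorem w1c7b_b2 : Br2.{u} w1c7b :=
  Br2.cand [13, 9, 13, 9, 13, 9] [8, 13, 8, 13, 8, 13] [[0, 3, 1, 6, 6, 4], [0, 7, 1, 7, 6, 6], [0, 9, 7, 6, 3, 1, 6, 9, 7, 4]] []
    (imp_of w1c7cT w1c7cT_rels (by decide +kernel)) (by decide +kernel)
    (List.forall_mem_nil _)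

theorem w1c7a_b2 : Br2.{u} w1c7a :=
  Br2.sub [[12], [10, 12, 11, 7]] w1c7b_b2 (by decide +kernel)

theorem w1c7_b2 : Br2.{u} w1c7 :=
  Br2.imp w1c7a_i w1c7a_b2

theorem w1_b2 : Br2.{u} w1 :=
  Br2.cand [12, 11, 12, 11, 12, 11] [10, 12, 10, 12, 10, 12] [[0, 3, 1, 3], [0, 9, 1, 9]] [[5], [0, 5], [1, 1, 5], [3, 3, 5], [0, 1, 1, 5], [0, 3, 3, 5], [1, 1, 3, 3, 5], [0, 1, 1, 3, 3, 5]]
    (imp_of w1cT w1cT_rels (by decide +kernel)) (by decide +kernel)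
    (List.forall_mem_cons.2 ⟨w1c0_b2, (List.forall_mem_cons.2 ⟨w1c1_b2, (List.forall_mem_cons.2 ⟨w1c2_b2, (List.forall_mem_cons.2 ⟨w1c3_b2, (List.forall_mem_cons.2 ⟨w1c4_b2, (List.forall_mem_cons.2 ⟨w1c5_b2, (List.forall_mem_cons.2 ⟨w1c6_b2, (List.forall_mem_cons.2 ⟨w1c7_b2, (List.forall_mem_nil _)⟩)⟩)⟩)⟩)⟩)⟩)⟩)⟩)

theorem w0c1_b2 : Br2.{u} w0c1 :=
  Br2.dead (imp_of w0c1D w0c1D_rels (by decide +kernel))

theorem w0c2_b2 : Br2.{u} w0c2 :=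
  Br2.dead (imp_of w0c2D w0c2D_rels (by decide +kernel))

theorem w0c3_b2 : Br2.{u} w0c3 :=
  Br2.dead (imp_of w0c3D w0c3D_rels (by decide +kernel))

theorem w0c4_b2 : Br2.{u} w0c4 :=
  Br2.dead (imp_of w0c4D w0c4D_rels (by decide +kernel))

theorem w0c5_b2 : Br2.{u} w0c5 :=
  Br2.dead (imp_of w0c5D w0c5D_rels (by decide +kernel))

theorem w0c6_b2 : Br2.{u} w0c6 :=
  Br2.dead (imp_of w0c6D w0c6D_rels (by decide +kernel))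

theorem w0c0c1_b2 : Br2.{u} w0c0c1 :=
  Br2.dead (imp_of w0c0c1D w0c0c1D_rels (by decide +kernel))

theorem w0c0c3_b2 : Br2.{u} w0c0c3 :=
  Br2.dead (imp_of w0c0c3D w0c0c3D_rels (by decide +kernel))

theorem w0c0c0_b2 : Br2.{u} w0c0c0 := fun _ _ _ _ M hs => ⟨M, .inl hs⟩

theorem w0c0c2_b2 : Br2.{u} w0c0c2 := fun _ _ _ _ M hs => ⟨M, .inr (.inl hs)⟩

theorem w0c0b_b2 : Br2.{u} w0c0b :=
  Br2.cand [13, 9, 13, 9, 13, 9] [8, 13, 8, 13, 8, 13] [[0, 3, 1, 4], [0, 8, 1, 8], [0, 9, 7, 6, 3, 1, 4, 5, 7, 9]] [[], [0], [1, 1], [0, 1, 1]]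
    (imp_of w0c0cT w0c0cT_rels (by decide +kernel)) (by decide +kernel)
    (List.forall_mem_cons.2 ⟨w0c0c0_b2, (List.forall_mem_cons.2 ⟨w0c0c1_b2, (List.forall_mem_cons.2 ⟨w0c0c2_b2, (List.forall_mem_cons.2 ⟨w0c0c3_b2, (List.forall_mem_nil _)⟩)⟩)⟩)⟩)

theorem w0c0a_b2 : Br2.{u} w0c0a :=
  Br2.sub [[12], [10, 12, 11]] w0c0b_b2 (by decide +kernel)

theorem w0c0_b2 : Br2.{u} w0c0 :=
  Br2.imp w0c0a_i w0c0a_b2

theorem w0c7c0_b2 : Br2.{u} w0c7c0 :=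
  Br2.dead (imp_of w0c7c0D w0c7c0D_rels (by decide +kernel))

theorem w0c7c1_b2 : Br2.{u} w0c7c1 :=
  Br2.dead (imp_of w0c7c1D w0c7c1D_rels (by decide +kernel))

theorem w0c7c2d_b2 : Br2.{u} w0c7c2d :=
  Br2.cand [13, 14, 14, 14] [15, 15, 15, 13] [[0, 3, 1, 6, 6, 3], [0, 5, 1, 5]] []
    (imp_of w0c7c2eT w0c7c2eT_rels (by decide +kernel)) (by decide +kernel)
    (List.forall_mem_nil _)

theorem w0c7c2c_b2 : Br2.{u} w0c7c2c :=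
  Br2.sub [[12], [13], [11, 14, 11, 14], [14, 10, 14, 10]] w0c7c2d_b2 (by decide +kernel)

theorem w0c7c2b_b2 : Br2.{u} w0c7c2b :=
  Br2.imp w0c7c2c_i w0c7c2c_b2

theorem w0c7c2a_b2 : Br2.{u} w0c7c2a :=
  Br2.sub [[12], [13], [8, 13, 9]] w0c7c2b_b2 (by decide +kernel)

theorem w0c7c2_b2 : Br2.{u} w0c7c2 :=
  Br2.imp w0c7c2a_i w0c7c2a_b2

theorem w0c7c3h1_b2 : Br2.{u} w0c7c3h1 :=
  Br2.dead (imp_of w0c7c3h1D w0c7c3h1D_rels (by decide +kernel))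

theorem w0c7c3h2_b2 : Br2.{u} w0c7c3h2 :=
  Br2.dead (imp_of w0c7c3h2D w0c7c3h2D_rels (by decide +kernel))

theorem w0c7c3h3_b2 : Br2.{u} w0c7c3h3 :=
  Br2.dead (imp_of w0c7c3h3D w0c7c3h3D_rels (by decide +kernel))

theorem w0c7c3h4_b2 : Br2.{u} w0c7c3h4 :=
  Br2.dead (imp_of w0c7c3h4D w0c7c3h4D_rels (by decide +kernel))

theorem w0c7c3h5_b2 : Br2.{u} w0c7c3h5 :=
  Br2.dead (imp_of w0c7c3h5D w0c7c3h5D_rels (by decide +kernel))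

theorem w0c7c3h6_b2 : Br2.{u} w0c7c3h6 :=
  Br2.dead (imp_of w0c7c3h6D w0c7c3h6D_rels (by decide +kernel))

theorem w0c7c3h7_b2 : Br2.{u} w0c7c3h7 :=
  Br2.dead (imp_of w0c7c3h7D w0c7c3h7D_rels (by decide +kernel))

theorem w0c7c3i_b2 : Br2.{u} w0c7c3i := fun _ _ _ _ M hs => ⟨M, .inr (.inr hs)⟩

theorem w0c7c3h0_b2 : Br2.{u} w0c7c3h0 :=
  Br2.imp w0c7c3i_i w0c7c3i_b2

theorem w0c7c3g_b2 : Br2.{u} w0c7c3g :=
  Br2.cand [17, 17] [18, 18] [[0, 3, 1, 4], [0, 9, 1, 9]] [[], [0], [1, 1], [3, 3], [0, 1, 1], [0, 3, 3], [1, 1, 3, 3], [0, 1, 1, 3, 3]]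
    (fun _ _ _ hs => hs.mono (by decide +kernel)) (by decide +kernel)
    (List.forall_mem_cons.2 ⟨w0c7c3h0_b2, (List.forall_mem_cons.2 ⟨w0c7c3h1_b2, (List.forall_mem_cons.2 ⟨w0c7c3h2_b2, (List.forall_mem_cons.2 ⟨w0c7c3h3_b2, (List.forall_mem_cons.2 ⟨w0c7c3h4_b2, (List.forall_mem_cons.2 ⟨w0c7c3h5_b2, (List.forall_mem_cons.2 ⟨w0c7c3h6_b2, (List.forall_mem_cons.2 ⟨w0c7c3h7_b2, (List.forall_mem_nil _)⟩)⟩)⟩)⟩)⟩)⟩)⟩)⟩)

theorem w0c7c3f_b2 : Br2.{u} w0c7c3f :=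
  Br2.imp w0c7c3g_i w0c7c3g_b2

theorem w0c7c3e_b2 : Br2.{u} w0c7c3e :=
  Br2.sub [[12], [13], [14], [15], [16], [15, 14, 16], [16, 14, 15]] w0c7c3f_b2 (by decide +kernel)

theorem w0c7c3d_b2 : Br2.{u} w0c7c3d :=
  Br2.imp w0c7c3e_i w0c7c3e_b2

theorem w0c7c3c_b2 : Br2.{u} w0c7c3c :=
  Br2.sub [[12], [13], [14], [10, 14, 11], [11, 14, 10]] w0c7c3d_b2 (by decide +kernel)

theorem w0c7c3b_b2 : Br2.{u} w0c7c3b :=
  Br2.imp w0c7c3c_i w0c7c3c_b2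

theorem w0c7c3a_b2 : Br2.{u} w0c7c3a :=
  Br2.sub [[12], [13], [8, 13, 9]] w0c7c3b_b2 (by decide +kernel)

theorem w0c7c3_b2 : Br2.{u} w0c7c3 :=
  Br2.imp w0c7c3a_i w0c7c3a_b2

theorem w0c7b_b2 : Br2.{u} w0c7b :=
  Br2.cand [13, 9, 13, 9, 13, 9] [8, 13, 8, 13, 8, 13] [[0, 3, 1, 6, 6, 4], [0, 8, 1, 8, 4, 7], [0, 9, 7, 6, 3, 1, 4, 5, 7, 9]] [[3, 7], [7, 4], [0, 3, 7], [0, 7, 4]]
    (imp_of w0c7cT w0c7cT_rels (by decide +kernel)) (by decide +kernel)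
    (List.forall_mem_cons.2 ⟨w0c7c0_b2, (List.forall_mem_cons.2 ⟨w0c7c1_b2, (List.forall_mem_cons.2 ⟨w0c7c2_b2, (List.forall_mem_cons.2 ⟨w0c7c3_b2, (List.forall_mem_nil _)⟩)⟩)⟩)⟩)

theorem w0c7a_b2 : Br2.{u} w0c7a :=
  Br2.sub [[12], [10, 12, 11]] w0c7b_b2 (by decide +kernel)

theorem w0c7_b2 : Br2.{u} w0c7 :=
  Br2.imp w0c7a_i w0c7a_b2

theorem w0_b2 : Br2.{u} w0 :=
  Br2.cand [12, 11, 12, 11, 12, 11] [10, 12, 10, 12, 10, 12] [[0, 3, 1, 4], [0, 9, 1, 9]] [[], [0], [1, 1], [3, 3], [0, 1, 1], [0, 3, 3], [1, 1, 3, 3], [0, 1, 1, 3, 3]]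
    (imp_of w0cT w0cT_rels (by decide +kernel)) (by decide +kernel)
    (List.forall_mem_cons.2 ⟨w0c0_b2, (List.forall_mem_cons.2 ⟨w0c1_b2, (List.forall_mem_cons.2 ⟨w0c2_b2, (List.forall_mem_cons.2 ⟨w0c3_b2, (List.forall_mem_cons.2 ⟨w0c4_b2, (List.forall_mem_cons.2 ⟨w0c5_b2, (List.forall_mem_cons.2 ⟨w0c6_b2, (List.forall_mem_cons.2 ⟨w0c7_b2, (List.forall_mem_nil _)⟩)⟩)⟩)⟩)⟩)⟩)⟩)⟩)

end Cfsg.Agent.M2S
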